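import Groth.Agent.BasicElt.Minor

/-!
Basic elements: an element non-vanishing at all primes of height at most `k` when the rank there exceeds `k`.
-/

set_option autoImplicit false
set_option linter.style.haveILetI false

universe u

namespace Groth.Agent.BasicElt

variable {A : Type u} [CommRing A] {M : Type u} [AddCommGroup M] [Module A M]

/-- the values of the linear forms at `x` in the residue field at `p` -/
noncomputable def ev (p : PrimeSpectrum A) : M →ₗ[A] ((M →ₗ[A] A) → p.asIdeal.ResidueField) :=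
  LinearMap.pi fun φ => (Algebra.linearMap A p.asIdeal.ResidueField).comp φ

lemma ev_apply (p : PrimeSpectrum A) (x : M) (φ : M →ₗ[A] A) :
    ev p x φ = algebraMap A p.asIdeal.ResidueField (φ x) := rfl

lemma ev_add_smul (p : PrimeSpectrum A) (x y : M) (a : A) :
    ev p (x + a • y) = ev p x + algebraMap A p.asIdeal.ResidueField a • ev p y := by
  funext φ
  simp [ev_apply, Algebra.smul_def]

/-- the rank of a family at a prime -/
noncomputable def rk {n : ℕ} (p : PrimeSpectrum A) (s : Fin n → M) : ℕ :=
  Module.finrank p.asIdeal.ResidueField (Submodule.span p.asIdeal.ResidueField (Set.range fun i => ev p (s i)))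

lemma rk_le {n : ℕ} (p : PrimeSpectrum A) (s : Fin n → M) : rk p s ≤ n :=
  (finrank_span_range_le fun i => ev p (s i)).trans_eq (Fintype.card_fin n)

lemma isClosed_rk_le {n : ℕ} (s : Fin n → M) (t : ℕ) : IsClosed {p : PrimeSpectrum A | rk p s ≤ t} := by
  rw [← isOpen_compl_iff, isOpen_iff_forall_mem_open]
  intro p hp
  simp only [Set.mem_compl_iff, Set.mem_ofPred_eq, not_le] at hp
  obtain ⟨sel, hsel⟩ := exists_sel (fun i => ev p (s i)) (t + 1) hp
  obtain ⟨e, he⟩ := exists_det_ne_zero hsel
  let Q : Matrix (Fin (t + 1)) (Fin (t + 1)) A := Matrix.of fun j i => e j (s (sel i))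
  have hQ : ∀ q : PrimeSpectrum A, (Matrix.of fun j i => ev q (s (sel i)) (e j)).det ≠ 0 ↔ Q.det ∉ q.asIdeal :=
    fun q => by
      rw [show (Matrix.of fun j i => ev q (s (sel i)) (e j)) =
        (algebraMap A q.asIdeal.ResidueField).mapMatrix Q from rfl, ← RingHom.map_det, ne_eq,
        Ideal.algebraMap_residueField_eq_zero]
  refine ⟨PrimeSpectrum.basicOpen Q.det, fun q hq => ?_, (PrimeSpectrum.basicOpen Q.det).2, (hQ p).1 he⟩
  simp only [Set.mem_compl_iff, Set.mem_ofPred_eq, not_le]
  exact le_finrank_of_linearIndependent (linearIndependent_of_det (v := fun i => ev q (s (sel i))) ((hQ q).2 hq))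
    (fun j => Submodule.subset_span ⟨sel j, rfl⟩)

variable (k : ℕ)

/-- the invariant of the reduction -/
def Inv {n : ℕ} (s : Fin n → M) : Prop :=
  ∀ p : PrimeSpectrum A, p.asIdeal.height ≤ k →
    n ≤ rk p s ∨ ((k + 1 : ℕ) : ℕ∞) ≤ (rk p s : ℕ∞) + p.asIdeal.height

variable [IsNoetherianRing A]

lemma finite_bad {n : ℕ} {s : Fin (n + 1) → M} (hs : Inv (A := A) k s) :
    Set.Finite {p : PrimeSpectrum A | p.asIdeal.height ≤ k ∧ rk p s ≤ n ∧
      (rk p s : ℕ∞) + p.asIdeal.height = ((k + 1 : ℕ) : ℕ∞)} := by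
  refine Set.Finite.subset (Set.Finite.biUnion (Finset.range (n + 1)).finite_toSet fun t _ =>
    ((PrimeSpectrum.vanishingIdeal {p : PrimeSpectrum A | rk p s ≤ t}).finite_minimalPrimes_of_isNoetherianRing).preimage
      (f := PrimeSpectrum.asIdeal) (fun p _ q _ h => PrimeSpectrum.ext h)) ?_
  rintro p ⟨hk, hn, he⟩
  simp only [Set.mem_iUnion, Finset.coe_range, Set.mem_Iio, exists_prop]
  refine ⟨rk p s, by omega, ⟨p.2, ?_⟩, fun q hq hqp => ?_⟩
  · exact fun a ha => (PrimeSpectrum.mem_vanishingIdeal _ a).1 ha p (le_refl (rk p s))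
  · haveI := hq.1
    let Q : PrimeSpectrum A := ⟨q, hq.1⟩
    have hQ : rk Q s ≤ rk p s := by
      have h : Q ∈ PrimeSpectrum.zeroLocus (PrimeSpectrum.vanishingIdeal {p' : PrimeSpectrum A | rk p' s ≤ rk p s} : Set A) := hq.2
      rwa [PrimeSpectrum.zeroLocus_vanishingIdeal_eq_closure, (isClosed_rk_le s (rk p s)).closure_eq] at h
    by_contra hle
    haveI : q.FiniteHeight := Ideal.finiteHeight_of_isNoetherianRing q
    haveI := p.2
    have hlt : q.height < p.asIdeal.height :=
      Ideal.height_strict_mono_of_isPrime_of_isPrime (lt_of_le_not_ge hqp hle)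
    obtain ⟨a, ha⟩ := ENat.ne_top_iff_exists.1 (ne_top_of_le_ne_top (ENat.natCast_ne_top k) (hlt.le.trans hk))
    obtain ⟨b, hb⟩ := ENat.ne_top_iff_exists.1 (ne_top_of_le_ne_top (ENat.natCast_ne_top k) hk)
    rw [← ha, ← hb, Nat.cast_lt] at hlt
    rw [← hb, ← Nat.cast_add, Nat.cast_inj] at he
    rcases hs Q (hqp |> Ideal.height_mono |>.trans hk) with h | h
    · omega
    · rw [show Q.asIdeal.height = q.height from rfl, ← ha, ← Nat.cast_add, Nat.cast_le] at h
      omega

/-- replace the first element -/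
def shear {n : ℕ} (s : Fin (n + 1) → M) (a : Fin n → A) : Fin n → M := fun i => s i.succ + a i • s 0

lemma rk_le_shear_add_one {n : ℕ} (p : PrimeSpectrum A) (s : Fin (n + 1) → M) (a : Fin n → A) :
    rk p s ≤ rk p (shear s a) + 1 := by
  classical
  let V : Submodule p.asIdeal.ResidueField ((M →ₗ[A] A) → p.asIdeal.ResidueField) :=
    Submodule.span _ (Set.range fun i => ev p (shear s a i))
  haveI : FiniteDimensional p.asIdeal.ResidueField V := FiniteDimensional.span_of_finite _ (Set.finite_range _)
  have hsub : Submodule.span p.asIdeal.ResidueField (Set.range fun i => ev p (s i)) ≤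
      V ⊔ Submodule.span _ {ev p (s 0)} := by
    rw [Submodule.span_le, Set.range_subset_iff]
    intro i
    induction i using Fin.cases with
    | zero => exact Submodule.mem_sup_right (Submodule.mem_span_singleton_self _)
    | succ i =>
      have h : ev p (s i.succ) = ev p (shear s a i) - algebraMap A p.asIdeal.ResidueField (a i) • ev p (s 0) := by
        rw [shear, ev_add_smul, add_sub_cancel_right]
      simp only [SetLike.mem_coe]
      rw [h]
      exact sub_mem (Submodule.mem_sup_left (Submodule.subset_span ⟨i, rfl⟩))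
        (Submodule.mem_sup_right (Submodule.smul_mem _ _ (Submodule.mem_span_singleton_self _)))
  refine (Submodule.finrank_mono hsub).trans ((Submodule.finrank_add_le_finrank_add_finrank _ _).trans ?_)
  exact Nat.add_le_add le_rfl ((finrank_span_le_card _).trans (by simp))

lemma rk_le_shear {n : ℕ} (p : PrimeSpectrum A) (s : Fin (n + 1) → M) (a : Fin n → A)
    (c : Fin (n + 1) → p.asIdeal.ResidueField) (hc : ∑ i, c i • ev p (s i) = 0)
    (hne : c 0 ≠ ∑ i, algebraMap A p.asIdeal.ResidueField (a i) * c i.succ) :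
    rk p s ≤ rk p (shear s a) := by
  classical
  let V : Submodule p.asIdeal.ResidueField ((M →ₗ[A] A) → p.asIdeal.ResidueField) :=
    Submodule.span _ (Set.range fun i => ev p (shear s a i))
  haveI : FiniteDimensional p.asIdeal.ResidueField V := FiniteDimensional.span_of_finite _ (Set.finite_range _)
  have h0 : ev p (s 0) ∈ V := by
    have h : ∑ i, c i.succ • ev p (shear s a i) =
        ((∑ i, algebraMap A p.asIdeal.ResidueField (a i) * c i.succ) - c 0) • ev p (s 0) := by
      rw [Fin.sum_univ_succ] at hc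
      simp only [shear, ev_add_smul, smul_add, smul_smul, Finset.sum_add_distrib]
      rw [eq_neg_of_add_eq_zero_right hc, ← Finset.sum_smul, sub_smul,
        Finset.sum_congr rfl fun i _ => mul_comm (c i.succ) _]
      abel
    have hm : ((∑ i, algebraMap A p.asIdeal.ResidueField (a i) * c i.succ) - c 0) • ev p (s 0) ∈ V :=
      h ▸ sum_mem fun i _ => Submodule.smul_mem _ _ (Submodule.subset_span ⟨i, rfl⟩)
    exact (Submodule.smul_mem_iff _ (sub_ne_zero.2 hne.symm)).1 hm
  refine Submodule.finrank_mono (Submodule.span_le.2 (Set.range_subset_iff.2 fun i => ?_))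
  induction i using Fin.cases with
  | zero => exact h0
  | succ i =>
    have h : ev p (s i.succ) = ev p (shear s a i) - algebraMap A p.asIdeal.ResidueField (a i) • ev p (s 0) := by
      rw [shear, ev_add_smul, add_sub_cancel_right]
    simp only [SetLike.mem_coe]
    rw [h]
    exact sub_mem (Submodule.subset_span ⟨i, rfl⟩) (Submodule.smul_mem _ _ h0)

lemma rk_shear_congr {n : ℕ} (p : PrimeSpectrum A) (s : Fin (n + 1) → M) {a a' : Fin n → A}
    (h : ∀ i, a i - a' i ∈ p.asIdeal) : rk p (shear s a) = rk p (shear s a') := by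
  have e : (fun i => ev p (shear s a i)) = fun i => ev p (shear s a' i) := funext fun i => by
    simp only [shear, ev_add_smul]
    rw [show algebraMap A p.asIdeal.ResidueField (a i) = algebraMap A p.asIdeal.ResidueField (a' i) from
      sub_eq_zero.1 (by rw [← map_sub, Ideal.algebraMap_residueField_eq_zero]; exact h i)]
  simp only [rk]
  rw [e]

lemma exists_shear {n : ℕ} (s : Fin (n + 1) → M) (B : Finset (PrimeSpectrum A))
    (hB : ∀ p ∈ B, rk p s ≤ n) : ∃ a : Fin n → A, ∀ p ∈ B, rk p s ≤ rk p (shear s a) := by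
  classical
  induction h : B.card generalizing B with
  | zero => exact ⟨0, fun p hp => absurd hp (by rw [Finset.card_eq_zero.1 h]; simp)⟩
  | succ m ih =>
    obtain ⟨q, hq, hmin⟩ := B.exists_minimal (Finset.card_pos.1 (by omega))
    obtain ⟨a, ha⟩ := ih (B.erase q) (fun p hp => hB p (Finset.mem_of_mem_erase hp))
      (by rw [Finset.card_erase_of_mem hq]; omega)
    have hli : ¬ LinearIndependent q.asIdeal.ResidueField fun i => ev q (s i) := fun hli => by
      have := finrank_span_eq_card hli
      rw [Fintype.card_fin] at this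
      have := hB q hq
      simp only [rk] at this
      omega
    obtain ⟨c, hc, i₀, hi₀⟩ := Fintype.not_linearIndependent_iff.1 hli
    by_cases hgood : c 0 ≠ ∑ i, algebraMap A q.asIdeal.ResidueField (a i) * c i.succ
    · refine ⟨a, fun p hp => ?_⟩
      by_cases hpq : p = q
      · subst hpq; exact rk_le_shear p s a c hc hgood
      · exact ha p (Finset.mem_erase.2 ⟨hpq, hp⟩)
    push Not at hgood
    obtain ⟨i₁, hi₁⟩ : ∃ i : Fin n, c i.succ ≠ 0 := by
      by_contra hall
      push Not at hall
      refine hi₀ ?_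
      induction i₀ using Fin.cases with
      | zero => rw [hgood]; simp [hall]
      | succ i => exact hall i
    -- a multiplier vanishing at the other primes but not at `q`
    obtain ⟨l, hl, hlq⟩ : ∃ l : A, (∀ p ∈ B.erase q, l ∈ p.asIdeal) ∧ l ∉ q.asIdeal := by
      by_contra hcon
      push Not at hcon
      obtain ⟨p, hp, hle⟩ := q.2.inf_le'.1 (show (B.erase q).inf (fun p => p.asIdeal) ≤ q.asIdeal from
        fun x hx => hcon x fun p hp => (Finset.inf_le (f := fun p : PrimeSpectrum A => p.asIdeal) hp : _ ≤ p.asIdeal) hx)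
      exact (Finset.ne_of_mem_erase hp) (le_antisymm hle (hmin (Finset.mem_of_mem_erase hp) hle))
    refine ⟨a + Pi.single i₁ l, fun p hp => ?_⟩
    by_cases hpq : p = q
    · subst hpq
      refine rk_le_shear p s _ c hc fun heq => ?_
      simp only [Pi.add_apply, map_add, add_mul, Finset.sum_add_distrib] at heq
      rw [← hgood, Finset.sum_eq_single i₁ (fun i _ hne => by simp [hne]) (by simp), Pi.single_eq_same,
        left_eq_add] at heq
      exact mul_ne_zero (fun h => hlq (Ideal.algebraMap_residueField_eq_zero.1 h)) hi₁ heq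
    · have hp' := Finset.mem_erase.2 ⟨hpq, hp⟩
      refine (ha p hp').trans_eq (rk_shear_congr p s fun i => ?_)
      rw [Pi.add_apply, sub_add_cancel_left]
      refine p.asIdeal.neg_mem_iff.2 ?_
      by_cases hi : i = i₁
      · subst hi; simpa using hl p hp'
      · simp [hi]

lemma inv_step {n : ℕ} (s : Fin (n + 1) → M) (hs : Inv (A := A) k s) : ∃ a : Fin n → A, Inv (A := A) k (shear s a) := by
  classical
  obtain ⟨a, ha⟩ := exists_shear s (finite_bad k hs).toFinset fun p hp => ((finite_bad k hs).mem_toFinset.1 hp).2.1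
  refine ⟨a, fun p hp => ?_⟩
  have h1 := rk_le_shear_add_one p s a
  obtain ⟨b, hb⟩ := ENat.ne_top_iff_exists.1 (ne_top_of_le_ne_top (ENat.natCast_ne_top k) hp)
  by_cases hbad : rk p s ≤ n ∧ (rk p s : ℕ∞) + p.asIdeal.height = ((k + 1 : ℕ) : ℕ∞)
  · have h2 := ha p ((finite_bad k hs).mem_toFinset.2 ⟨hp, hbad⟩)
    refine Or.inr ?_
    rw [← hbad.2]
    exact add_le_add_left (by exact_mod_cast h2) _
  · have hI := hs p hp
    rw [← hb, ← Nat.cast_add, Nat.cast_le] at hI
    rw [← hb, ← Nat.cast_add, Nat.cast_inj] at hbad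
    rw [← hb, ← Nat.cast_add, Nat.cast_le]
    omega

lemma exists_inv_one : ∀ {n : ℕ} (s : Fin (n + 1) → M), Inv (A := A) k s → ∃ x : Fin 1 → M, Inv (A := A) k x
  | 0, s, hs => ⟨s, hs⟩
  | n + 1, s, hs => let ⟨a, ha⟩ := inv_step k s hs; exists_inv_one (shear s a) ha

end Groth.Agent.BasicElt
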