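import Groth.Agent.BasicElt.Elem

/-!
Free submodules with free quotient at primes of small height.
-/

set_option autoImplicit false
set_option backward.isDefEq.respectTransparency false
set_option backward.isDefEq.respectTransparency.types false
set_option linter.style.haveILetI false

universe u

namespace Groth.Agent.BasicElt

variable {A : Type u} [CommRing A] [IsNoetherianRing A] {M : Type u} [AddCommGroup M] [Module A M]
  [Module.Finite A M]

lemma inv_generators (k r : ℕ) (hkr : k + 1 ≤ r) {n : ℕ} (s : Fin n → M)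
    (hs : Submodule.span A (Set.range s) = ⊤)
    (hM : ∀ p : PrimeSpectrum A, p.asIdeal.height ≤ k →
      Nonempty (LocalizedModule p.asIdeal.primeCompl M ≃ₗ[Localization.AtPrime p.asIdeal]
        (Fin r → Localization.AtPrime p.asIdeal))) : Inv (A := A) k s := by
  classical
  intro p hp
  obtain ⟨e⟩ := hM p hp
  let S := p.asIdeal.primeCompl
  let L := LocalizedModule.mkLinearMap S M
  haveI : Module.FinitePresentation A M := Module.finitePresentation_of_finite A M
  choose h u hu using fun i : Fin r =>
    Module.FinitePresentation.exists_lift_of_isLocalizedModule S (Algebra.linearMap A (Localization.AtPrime p.asIdeal))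
      ((LinearMap.proj i).comp ((e.toLinearMap.restrictScalars A).comp L))
  choose x hx using fun j : Fin r => IsLocalizedModule.surj S L (e.symm (Pi.single j 1))
  have key : ∀ i j, algebraMap A (Localization.AtPrime p.asIdeal) (h i (x j).1) =
      if i = j then algebraMap A _ ((u i : A) * ((x j).2 : A)) else 0 := by
    intro i j
    have h1 := LinearMap.congr_fun (hu i) (x j).1
    simp only [LinearMap.comp_apply, LinearMap.smul_apply, Algebra.linearMap_apply, LinearMap.proj_apply] at h1
    rw [h1, ← hx j, Submonoid.smul_def, Submonoid.smul_def]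
    simp only [LinearMap.coe_restrictScalars, LinearEquiv.coe_coe, LinearMap.map_smul_of_tower,
      Pi.smul_apply, e.apply_symm_apply, Pi.single_apply, Algebra.smul_def]
    split_ifs with hij <;> simp
  have hli : LinearIndependent p.asIdeal.ResidueField fun j => ev p (x j).1 := by
    refine linearIndependent_of_det (e := h) ?_
    have hd : (Matrix.of fun i j => ev p (x j).1 (h i)) =
        Matrix.diagonal fun i => algebraMap A p.asIdeal.ResidueField ((u i : A) * ((x i).2 : A)) := by
      ext i j
      rw [Matrix.of_apply, ev_apply, IsScalarTower.algebraMap_apply A (Localization.AtPrime p.asIdeal), key,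
        Matrix.diagonal_apply]
      split_ifs with hij
      · subst hij; rw [← IsScalarTower.algebraMap_apply]
      · rw [map_zero]
    rw [hd, Matrix.det_diagonal, Finset.prod_ne_zero_iff]
    exact fun i _ h0 => (p.2.mem_or_mem (Ideal.algebraMap_residueField_eq_zero.1 h0)).elim (u i).2 (x i).2.2
  have hspan : ∀ y : M, ev p y ∈ Submodule.span p.asIdeal.ResidueField (Set.range fun i => ev p (s i)) := fun y => by
    have hy : y ∈ Submodule.span A (Set.range s) := hs ▸ Submodule.mem_top
    induction hy using Submodule.span_induction with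
    | mem y hy => obtain ⟨i, rfl⟩ := hy; exact Submodule.subset_span ⟨i, rfl⟩
    | zero => rw [map_zero]; exact zero_mem _
    | add a b _ _ ha hb => rw [map_add]; exact add_mem ha hb
    | smul c a _ ha =>
      rw [map_smul, ← algebraMap_smul p.asIdeal.ResidueField c]
      exact Submodule.smul_mem _ _ ha
  have hr : r ≤ rk p s := le_finrank_of_linearIndependent hli fun j => hspan _
  exact Or.inr (le_trans (by exact_mod_cast hkr.trans hr) le_self_add)

theorem exists_elt (k r : ℕ) (hkr : k + 1 ≤ r)
    (hM : ∀ p : PrimeSpectrum A, p.asIdeal.height ≤ k →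
      Nonempty (LocalizedModule p.asIdeal.primeCompl M ≃ₗ[Localization.AtPrime p.asIdeal]
        (Fin r → Localization.AtPrime p.asIdeal))) :
    ∃ x : M, ∀ p : PrimeSpectrum A, p.asIdeal.height ≤ k → ∃ φ : M →ₗ[A] A, φ x ∉ p.asIdeal := by
  obtain ⟨n, s, hs⟩ := Module.Finite.exists_fin (R := A) (M := M)
  have hs' : Submodule.span A (Set.range (Fin.cons (0 : M) s : Fin (n + 1) → M)) = ⊤ := by
    rw [Fin.range_cons, Submodule.span_insert_zero, hs]
  obtain ⟨x, hx⟩ := exists_inv_one k _ (inv_generators k r hkr _ hs' hM)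
  refine ⟨x 0, fun p hp => ?_⟩
  by_contra hcon
  push Not at hcon
  have h0 : ev p (x 0) = 0 := funext fun φ => Ideal.algebraMap_residueField_eq_zero.2 (hcon φ)
  have hr : rk p x = 0 := by
    rw [rk, show (fun i => ev p (x i)) = fun _ : Fin 1 => (0 : (M →ₗ[A] A) → p.asIdeal.ResidueField) from
      funext fun i => by rw [Subsingleton.elim i 0, h0], Set.range_const, Submodule.span_zero_singleton,
      finrank_bot]
  rcases hx p hp with h | h
  · omega
  · rw [hr, Nat.cast_zero, zero_add] at h
    have := h.trans hp
    norm_cast at this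
    omega

lemma free_quotient (p : PrimeSpectrum A) (x : M) (φ : M →ₗ[A] A) (hφ : φ x ∉ p.asIdeal) {r : ℕ}
    (e : LocalizedModule p.asIdeal.primeCompl M ≃ₗ[Localization.AtPrime p.asIdeal]
      (Fin (r + 1) → Localization.AtPrime p.asIdeal)) :
    Nonempty (LocalizedModule p.asIdeal.primeCompl (M ⧸ Submodule.span A {x}) ≃ₗ[Localization.AtPrime p.asIdeal]
      (Fin r → Localization.AtPrime p.asIdeal)) := by
  let S := p.asIdeal.primeCompl
  let R := Localization.AtPrime p.asIdeal
  let L := LocalizedModule.mkLinearMap S M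
  let ψ : LocalizedModule S M →ₗ[R] R :=
    IsLocalizedModule.mapExtendScalars S L (Algebra.linearMap A R) R φ
  have hu : IsUnit (ψ (L x)) := by
    simp only [ψ, IsLocalizedModule.mapExtendScalars_apply_apply, IsLocalizedModule.map_apply, Algebra.linearMap_apply]
    exact IsLocalization.map_units R (⟨φ x, hφ⟩ : S)
  let W : Submodule R (LocalizedModule S M) := Submodule.span R {L x}
  have hloc : (Submodule.span A {x}).localized S = W := by
    rw [show (Submodule.span A {x}).localized S = (Submodule.span A {x}).localized' R S L from rfl,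
      Submodule.localized'_span, Set.image_singleton]
  have hc : IsCompl (LinearMap.ker ψ) W := by
    refine ⟨disjoint_iff_inf_le.2 ?_, codisjoint_iff_le_sup.2 fun z _ => ?_⟩
    · rintro z ⟨hz1, hz2⟩
      obtain ⟨c, rfl⟩ := Submodule.mem_span_singleton.1 hz2
      have h := hz1
      simp only [SetLike.mem_coe, LinearMap.mem_ker, map_smul, smul_eq_mul] at h
      rw [hu.mul_left_eq_zero.1 h, zero_smul]
      exact zero_mem _
    · obtain ⟨v, hv⟩ := hu
      rw [Submodule.mem_sup]
      refine ⟨z - (ψ z * ↑v⁻¹) • L x, ?_, (ψ z * ↑v⁻¹) • L x,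
        Submodule.smul_mem _ _ (Submodule.mem_span_singleton_self _), sub_add_cancel _ _⟩
      rw [LinearMap.mem_ker, map_sub, map_smul, smul_eq_mul, ← hv, Units.inv_mul_cancel_right, sub_self]
  haveI : Module.Free R (LocalizedModule S M) := Module.Free.of_equiv e.symm
  haveI : Module.Finite R (LocalizedModule S M) := Module.Finite.equiv e.symm
  haveI : Module.Finite R (LinearMap.ker ψ) :=
    Module.Finite.equiv (Submodule.quotientEquivOfIsCompl W (LinearMap.ker ψ) hc.symm)
  haveI : Module.Projective R (LinearMap.ker ψ) :=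
    Module.Projective.of_split (LinearMap.ker ψ).subtype ((LinearMap.ker ψ).projectionOnto W hc)
      (LinearMap.ext fun z => Submodule.projectionOnto_apply_left hc z)
  haveI : Module.Free R (LinearMap.ker ψ) := Module.free_of_flat_of_isLocalRing
  let eW : R ≃ₗ[R] W := LinearEquiv.ofBijective
    (LinearMap.toSpanSingleton R W ⟨L x, Submodule.mem_span_singleton_self _⟩)
    ⟨fun a b hab => by
      have h := congrArg (fun w : W => ψ w.1) hab
      simp only [LinearMap.toSpanSingleton_apply, SetLike.val_smul, map_smul, smul_eq_mul] at h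
      exact hu.mul_right_cancel h,
     fun w => by
      obtain ⟨c, hc'⟩ := Submodule.mem_span_singleton.1 w.2
      exact ⟨c, Subtype.ext hc'⟩⟩
  have hfr : Module.finrank R (LinearMap.ker ψ) = r := by
    have h := ((LinearEquiv.refl R (LinearMap.ker ψ)).prodCongr eW).trans
      ((Submodule.prodEquivOfIsCompl _ W hc).trans e)
    have h' := h.finrank_eq
    rw [Module.finrank_prod, Module.finrank_self, Module.finrank_fin_fun] at h'
    omega
  exact ⟨(localizedQuotientEquiv S (Submodule.span A {x})).symm ≪≫ₗ
    (Submodule.quotEquivOfEq _ W hloc) ≪≫ₗ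
    (Submodule.quotientEquivOfIsCompl W (LinearMap.ker ψ) hc.symm) ≪≫ₗ
    (Module.finBasisOfFinrankEq R _ hfr).equivFun⟩

end Groth.Agent.BasicElt

namespace Groth.Agent.BasicElt

variable {A : Type u} [CommRing A] [IsNoetherianRing A]

/-- localisation of an isomorphism -/
noncomputable def locCongr (p : PrimeSpectrum A) {M N : Type u} [AddCommGroup M] [Module A M] [AddCommGroup N]
    [Module A N] (e : M ≃ₗ[A] N) :
    LocalizedModule p.asIdeal.primeCompl M ≃ₗ[Localization.AtPrime p.asIdeal]
      LocalizedModule p.asIdeal.primeCompl N :=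
  haveI : IsLocalizedModule p.asIdeal.primeCompl
      ((LocalizedModule.mkLinearMap p.asIdeal.primeCompl N) ∘ₗ (e : M →ₗ[A] N)) :=
    IsLocalizedModule.of_linearEquiv_right _ _ e
  LinearEquiv.extendScalarsOfIsLocalization p.asIdeal.primeCompl _
    (IsLocalizedModule.linearEquiv p.asIdeal.primeCompl (LocalizedModule.mkLinearMap _ M)
      ((LocalizedModule.mkLinearMap p.asIdeal.primeCompl N) ∘ₗ (e : M →ₗ[A] N)))

theorem main (k : ℕ) (hAss : ∀ p ∈ associatedPrimes A A, p.height ≤ k) : ∀ (m : ℕ) (M : Type u) [AddCommGroup M]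
    [Module A M] [Module.Finite A M],
    (∀ p : PrimeSpectrum A, p.asIdeal.height ≤ k →
      Nonempty (LocalizedModule p.asIdeal.primeCompl M ≃ₗ[Localization.AtPrime p.asIdeal]
        (Fin (k + m) → Localization.AtPrime p.asIdeal))) →
    ∃ N : Submodule A M, Nonempty (N ≃ₗ[A] (Fin m → A)) ∧ ∀ p : PrimeSpectrum A, p.asIdeal.height ≤ k →
      Nonempty (LocalizedModule p.asIdeal.primeCompl (M ⧸ N) ≃ₗ[Localization.AtPrime p.asIdeal]
        (Fin k → Localization.AtPrime p.asIdeal)) := by
  intro m
  induction m with
  | zero =>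
    intro M _ _ _ hM
    refine ⟨⊥, ⟨LinearEquiv.ofSubsingleton _ _⟩, fun p hp => ?_⟩
    obtain ⟨e⟩ := hM p hp
    exact ⟨(locCongr p (Submodule.quotEquivOfEqBot (⊥ : Submodule A M) rfl)) ≪≫ₗ e⟩
  | succ m ih =>
    intro M _ _ _ hM
    obtain ⟨x, hx⟩ := exists_elt k (k + (m + 1)) (by omega) hM
    obtain ⟨N', ⟨eN⟩, hN'⟩ := ih (M ⧸ Submodule.span A {x}) fun p hp =>
      let ⟨φ, hφ⟩ := hx p hp
      free_quotient p x φ hφ (hM p hp).some
    let π := (Submodule.span A {x}).mkQ
    choose y hy using fun i => Submodule.mkQ_surjective (Submodule.span A {x}) (eN.symm (Pi.single i 1) : M ⧸ _)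
    let l : (Fin (m + 1) → A) →ₗ[A] M := Fintype.linearCombination A (Fin.cons x y : Fin (m + 1) → M)
    have hl : ∀ c : Fin (m + 1) → A, π (l c) = (eN.symm (Fin.tail c) : M ⧸ _) := fun c => by
      simp only [l, Fintype.linearCombination_apply, Fin.sum_univ_succ, Fin.cons_zero, Fin.cons_succ, map_add,
        map_sum, map_smul, π, hy]
      rw [show (Submodule.span A {x}).mkQ x = 0 from
        (Submodule.Quotient.mk_eq_zero _).2 (Submodule.mem_span_singleton_self x), smul_zero, zero_add]
      conv_rhs => rw [pi_eq_sum_univ' (Fin.tail c), map_sum]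
      simp [Fin.tail]
    have hxinj : ∀ a : A, a • x = 0 → a = 0 := fun a ha => by
      by_contra hne
      obtain ⟨P, hP, hle⟩ := exists_le_isAssociatedPrime_of_isNoetherianRing A a hne
      obtain ⟨φ, hφ⟩ := hx ⟨P, hP.isPrime⟩ (hAss P hP)
      refine hφ (hle ?_)
      rw [Submodule.mem_colon_singleton, Submodule.mem_bot, smul_eq_mul, mul_comm, ← smul_eq_mul,
        ← map_smul, ha, map_zero]
    have hinj : Function.Injective l := by
      refine (injective_iff_map_eq_zero l).2 fun c hc => ?_
      have h1 := hl c
      rw [hc, map_zero] at h1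
      have h2 : Fin.tail c = 0 := eN.symm.injective (Subtype.ext (by rw [map_zero]; exact h1.symm))
      have h3 : ∀ i : Fin m, c i.succ = 0 := fun i => congrFun h2 i
      simp only [l, Fintype.linearCombination_apply, Fin.sum_univ_succ, Fin.cons_zero, Fin.cons_succ, h3,
        zero_smul, Finset.sum_const_zero, add_zero] at hc
      funext i
      induction i using Fin.cases with
      | zero => exact hxinj _ hc
      | succ i => exact h3 i
    have hrange : LinearMap.range l = N'.comap π := by
      refine le_antisymm ?_ fun z hz => ?_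
      · rintro _ ⟨c, rfl⟩
        rw [Submodule.mem_comap, hl]
        exact SetLike.coe_mem _
      · let c0 : Fin (m + 1) → A := Fin.cons 0 (eN ⟨π z, hz⟩)
        have h : π (l c0) = π z := by
          rw [hl]
          simp [c0]
        obtain ⟨b, hb⟩ := Submodule.mem_span_singleton.1 ((Submodule.Quotient.eq _).1 h.symm)
        refine ⟨c0 + Pi.single 0 b, ?_⟩
        rw [map_add, show l (Pi.single 0 b) = b • x by simp [l], hb]
        abel
    refine ⟨N'.comap π, ⟨(LinearEquiv.ofEq _ _ hrange.symm) ≪≫ₗ (LinearEquiv.ofInjective l hinj).symm⟩, fun p hp => ?_⟩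
    obtain ⟨e⟩ := hN' p hp
    have hle : Submodule.span A {x} ≤ N'.comap π := fun z hz => by
      rw [Submodule.mem_comap, show π z = 0 from (Submodule.Quotient.mk_eq_zero _).2 hz]
      exact zero_mem _
    let q : (M ⧸ N'.comap π) ≃ₗ[A] (M ⧸ Submodule.span A {x}) ⧸ N' :=
      (Submodule.quotientQuotientEquivQuotient _ _ hle).symm ≪≫ₗ Submodule.quotEquivOfEq _ _
        (Submodule.map_comap_eq_of_surjective (Submodule.mkQ_surjective _) N')
    exact ⟨(locCongr p q) ≪≫ₗ e⟩

end Groth.Agent.BasicElt
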