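import Mathlib

/-!
Minors of finitely many functions with values in a field, and the rank of their span.
-/

set_option autoImplicit false
set_option linter.style.haveILetI false

universe u v

namespace Groth.Agent.BasicElt

variable {K : Type u} [Field K] {α : Type v} {h : ℕ}

theorem linearIndependent_of_det {v : Fin h → α → K} {e : Fin h → α}
    (hd : (Matrix.of fun j i => v i (e j)).det ≠ 0) : LinearIndependent K v := by
  refine Fintype.linearIndependent_iff.2 fun g hg => ?_
  refine congrFun (Matrix.eq_zero_of_mulVec_eq_zero hd ?_)
  funext j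
  have := congrFun hg (e j)
  simp only [Finset.sum_apply, Pi.smul_apply, smul_eq_mul, Pi.zero_apply] at this
  simp only [Matrix.mulVec, dotProduct, Matrix.of_apply, Pi.zero_apply]
  rw [← this]
  exact Finset.sum_congr rfl fun i _ => mul_comm _ _

theorem exists_det_ne_zero {v : Fin h → α → K} (hv : LinearIndependent K v) :
    ∃ e : Fin h → α, (Matrix.of fun j i => v i (e j)).det ≠ 0 := by
  classical
  let row : α → Fin h → K := fun a i => v i a
  let W : Submodule K (Fin h → K) := Submodule.span K (Set.range row)
  have hW : W = ⊤ := by
    by_contra hW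
    obtain ⟨c, hc, hker⟩ := Submodule.exists_dual_map_eq_bot_of_lt_top (lt_top_iff_ne_top.2 hW) inferInstance
    refine hc (LinearMap.pi_ext' fun i => LinearMap.ext_ring ?_)
    have hz : ∑ i, c (Pi.single i 1) • v i = 0 := by
      funext a
      have h0 : c (row a) = 0 := by
        rw [← Submodule.mem_bot (R := K), ← hker]
        exact Submodule.mem_map_of_mem (Submodule.subset_span ⟨a, rfl⟩)
      rw [pi_eq_sum_univ' (row a), map_sum] at h0
      simp only [Finset.sum_apply, Pi.smul_apply, smul_eq_mul, Pi.zero_apply]
      refine Eq.trans (Finset.sum_congr rfl fun i _ => ?_) h0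
      rw [map_smul, smul_eq_mul, mul_comm]
    simpa using Fintype.linearIndependent_iff.1 hv _ hz i
  obtain ⟨b, hb, hbspan, hbli⟩ := exists_linearIndependent K (Set.range row)
  haveI := hbli.setFinite.fintype
  have hcard : Fintype.card b = h := by
    have h1 := finrank_span_set_eq_card (R := K) hbli
    rw [hbspan, show Submodule.span K (Set.range row) = W from rfl, hW, finrank_top, Module.finrank_fin_fun,
      Set.toFinset_card] at h1
    exact h1.symm
  let e : Fin h ≃ b := (finCongr hcard.symm).trans (Fintype.equivFin b).symm
  choose a ha using fun j : Fin h => hb (e j).2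
  refine ⟨a, ?_⟩
  have hrow : (Matrix.of fun j i => v i (a j)).row = fun j => ((e j : b) : Fin h → K) := funext fun j => ha j
  have h2 : LinearIndependent K (Matrix.of fun j i => v i (a j)).row := by
    rw [hrow]
    exact hbli.comp e e.injective
  exact ((Matrix.isUnit_iff_isUnit_det _).1 (Matrix.linearIndependent_rows_iff_isUnit.1 h2)).ne_zero

theorem finrank_span_range_le {ι : Type*} [Fintype ι] (v : ι → α → K) :
    Module.finrank K (Submodule.span K (Set.range v)) ≤ Fintype.card ι :=
  finrank_range_le_card v

/-- extract independent vectors -/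
theorem exists_sel {n : ℕ} (v : Fin n → α → K) (t : ℕ) (ht : t ≤ Module.finrank K (Submodule.span K (Set.range v))) :
    ∃ sel : Fin t → Fin n, LinearIndependent K (v ∘ sel) := by
  classical
  obtain ⟨b, hb, hbspan, hbli⟩ := exists_linearIndependent K (Set.range v)
  haveI := ((Set.finite_range v).subset hb).fintype
  have hcard : t ≤ Fintype.card b := by
    have h1 := finrank_span_set_eq_card (R := K) hbli
    rw [hbspan, Set.toFinset_card] at h1
    omega
  let e : Fin t ↪ b := (Fin.castLEEmb hcard).trans (Fintype.equivFin b).symm.toEmbedding
  choose s hs using fun j : Fin t => hb (e j).2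
  refine ⟨s, ?_⟩
  rw [show v ∘ s = fun j => ((e j : b) : α → K) from funext hs]
  exact hbli.comp e e.injective

theorem le_finrank_of_linearIndependent {ι : Type*} [Fintype ι] {v : ι → α → K} {t : ℕ} {w : Fin t → α → K}
    (hw : LinearIndependent K w) (hsub : ∀ j, w j ∈ Submodule.span K (Set.range v)) :
    t ≤ Module.finrank K (Submodule.span K (Set.range v)) := by
  haveI : FiniteDimensional K (Submodule.span K (Set.range v)) :=
    FiniteDimensional.span_of_finite K (Set.finite_range v)
  have h1 := finrank_span_eq_card hw
  rw [Fintype.card_fin] at h1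
  rw [← h1]
  exact Submodule.finrank_mono (Submodule.span_le.2 (Set.range_subset_iff.2 hsub))

end Groth.Agent.BasicElt
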